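import Groth.Agent.Lib.Unram.CompletionBranch
import Groth.Agent.Lib.Regular.Descent

/-!
# Immediate étale generizations and completion

For a flat map `S → E` of Noetherian local rings with `mE = m_E`, trivial residue extension and `S`
henselian, an ideal of `S` has a one-dimensional component iff its extension has one.
-/

set_option autoImplicit false
set_option linter.style.haveILetI false

universe u

open IsLocalRing Groth.Agent.Lib.Unram

namespace Groth.Agent.H24.ImmGen

/-- Minimal primes over `I` and one-dimensional components. -/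
def HasCurveComp {S : Type u} [CommRing S] (I : Ideal S) : Prop :=
  ∃ P ∈ I.minimalPrimes, ringKrullDim (S ⧸ P) = 1

theorem hasCurveComp_of_equiv {S S' : Type u} [CommRing S] [CommRing S'] (e : S ≃+* S') {I : Ideal S}
    (h : HasCurveComp I) : HasCurveComp (I.map (e : S →+* S')) := by
  obtain ⟨P, hP, hd⟩ := h
  haveI := hP.1.1
  refine ⟨P.map (e : S →+* S'), ⟨⟨Ideal.map_isPrime_of_equiv e, Ideal.map_mono hP.1.2⟩,
    fun Q hQ hQP => ?_⟩, ?_⟩
  · haveI := hQ.1
    have h1 : P ≤ Q.comap (e : S →+* S') := hP.2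
      ⟨hQ.1.comap _, Ideal.map_le_iff_le_comap.1 hQ.2⟩ fun x hx => by
        have h2 : (e : S →+* S') x ∈ P.map (e : S →+* S') := hQP hx
        obtain ⟨y, hy, hyx⟩ :=
          (Ideal.mem_map_iff_of_surjective (e : S →+* S') (fun z => e.surjective z)).1 h2
        rwa [← e.injective hyx]
    exact Ideal.map_le_iff_le_comap.2 h1
  · rw [← hd]
    exact (ringKrullDim_eq_of_ringEquiv (Ideal.quotientEquiv P (P.map (e : S →+* S')) e rfl)).symm

theorem hasCurveComp_iff_of_algEquiv {A S S' : Type u} [CommRing A] [CommRing S] [CommRing S']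
    [Algebra A S] [Algebra A S'] (e : S ≃ₐ[A] S') (p : Ideal A) :
    HasCurveComp (p.map (algebraMap A S)) ↔ HasCurveComp (p.map (algebraMap A S')) := by
  have key : ∀ {X Y : Type u} [CommRing X] [CommRing Y] [Algebra A X] [Algebra A Y] (f : X ≃ₐ[A] Y),
      HasCurveComp (p.map (algebraMap A X)) → HasCurveComp (p.map (algebraMap A Y)) := by
    intro X Y _ _ _ _ f h
    have h' := hasCurveComp_of_equiv f.toRingEquiv h
    rwa [Ideal.map_map, show (f.toRingEquiv : X →+* Y).comp (algebraMap A X) = algebraMap A Y from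
      RingHom.ext fun a => f.commutes a] at h'
  exact ⟨key e, key e.symm⟩

theorem exists_le_comap_eq {S E : Type u} [CommRing S] [CommRing E] [Algebra S E] [Module.Flat S E]
    {P : Ideal S} [P.IsPrime] {Q : Ideal E} [Q.IsPrime] (h : P ≤ Q.comap (algebraMap S E)) :
    ∃ Q' : Ideal E, Q' ≤ Q ∧ Q'.IsPrime ∧ Q'.comap (algebraMap S E) = P := by
  haveI : Q.LiesOver (Q.comap (algebraMap S E)) := ⟨rfl⟩
  obtain ⟨Q', h1, h2, h3⟩ :=
    Q.exists_ideal_le_liesOver_of_le (p := P) (q := Q.comap (algebraMap S E)) h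
  exact ⟨Q', h1, h2, h3.over.symm⟩

theorem comap_mem_minimalPrimes {S E : Type u} [CommRing S] [CommRing E] [Algebra S E]
    [Module.Flat S E] {I : Ideal S} {Q : Ideal E}
    (hQ : Q ∈ (I.map (algebraMap S E)).minimalPrimes) :
    Q.comap (algebraMap S E) ∈ I.minimalPrimes := by
  haveI := hQ.1.1
  refine ⟨⟨hQ.1.1.comap _, Ideal.map_le_iff_le_comap.1 hQ.1.2⟩, fun P hP hle => ?_⟩
  haveI := hP.1
  obtain ⟨Q', h1, h2, h3⟩ := exists_le_comap_eq hle
  rw [← h3]
  exact Ideal.comap_mono (hQ.2 ⟨h2, Ideal.map_le_iff_le_comap.2 (h3 ▸ hP.2)⟩ h1)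

theorem mem_minimalPrimes_map {S E : Type u} [CommRing S] [CommRing E] [Algebra S E]
    [Module.Flat S E] {I : Ideal S} {P : Ideal S} (hP : P ∈ I.minimalPrimes) {Q : Ideal E}
    (hQ : Q ∈ (P.map (algebraMap S E)).minimalPrimes) :
    Q ∈ (I.map (algebraMap S E)).minimalPrimes := by
  haveI := hP.1.1
  haveI := hQ.1.1
  obtain ⟨Q₁, h1, h2, h3⟩ := exists_le_comap_eq (Ideal.map_le_iff_le_comap.1 hQ.1.2)
  have hPQ : Q.comap (algebraMap S E) ≤ P := by
    rw [← h3]
    exact Ideal.comap_mono (hQ.2 ⟨h2, Ideal.map_le_iff_le_comap.2 h3.ge⟩ h1)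
  refine ⟨⟨hQ.1.1, (Ideal.map_mono hP.1.2).trans hQ.1.2⟩, fun R hR hRQ => ?_⟩
  refine hQ.2 ⟨hR.1, Ideal.map_le_iff_le_comap.2 ?_⟩ hRQ
  exact hP.2 ⟨hR.1.comap _, Ideal.map_le_iff_le_comap.1 hR.2⟩ ((Ideal.comap_mono hRQ).trans hPQ)

theorem hasCurveComp_iff_exists {A B C : Type u} [CommRing A] [CommRing B] [CommRing C]
    [Algebra A B] [Algebra B C] [Algebra A C] [IsScalarTower A B C] [Module.Flat B C] (p : Ideal A) :
    HasCurveComp (p.map (algebraMap A C)) ↔
      ∃ q ∈ (p.map (algebraMap A B)).minimalPrimes, HasCurveComp (q.map (algebraMap B C)) := by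
  rw [show p.map (algebraMap A C) = (p.map (algebraMap A B)).map (algebraMap B C) by
    rw [Ideal.map_map, ← IsScalarTower.algebraMap_eq]]
  constructor
  · rintro ⟨Q, hQ, hd⟩
    refine ⟨_, comap_mem_minimalPrimes hQ, Q, ⟨⟨hQ.1.1, Ideal.map_comap_le⟩,
      fun R hR hle => hQ.2 ⟨hR.1, ?_⟩ hle⟩, hd⟩
    exact (Ideal.map_mono (Ideal.map_le_iff_le_comap.1 hQ.1.2)).trans hR.2
  · rintro ⟨q, hq, Q, hQ, hd⟩
    exact ⟨Q, mem_minimalPrimes_map hq hQ, hd⟩

section Local

variable {S E : Type u} [CommRing S] [CommRing E] [IsLocalRing S] [IsLocalRing E]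
  [IsNoetherianRing S] [IsNoetherianRing E] [Algebra S E] [Module.Flat S E]

theorem ringKrullDim_quotient_map (hmax : (maximalIdeal S).map (algebraMap S E) = maximalIdeal E)
    (P : Ideal S) (hP : P ≠ ⊤) :
    ringKrullDim (E ⧸ P.map (algebraMap S E)) = ringKrullDim (S ⧸ P) := by
  let I := P.map (algebraMap S E)
  have hI : I ≤ maximalIdeal E := hmax ▸ Ideal.map_mono (le_maximalIdeal hP)
  haveI : Nontrivial (E ⧸ I) := Ideal.Quotient.nontrivial_iff.mpr fun h' =>
    (maximalIdeal.isMaximal E).ne_top (top_le_iff.mp (h' ▸ hI))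
  haveI : Nontrivial (S ⧸ P) := Ideal.Quotient.nontrivial_iff.mpr hP
  haveI : IsLocalRing (E ⧸ I) := .of_surjective' (Ideal.Quotient.mk I) Ideal.Quotient.mk_surjective
  haveI : IsLocalRing (S ⧸ P) := .of_surjective' (Ideal.Quotient.mk P) Ideal.Quotient.mk_surjective
  haveI : Module.Flat (S ⧸ P) (E ⧸ I) :=
    Module.Flat.of_linearEquiv (R := S ⧸ P)
      (Algebra.TensorProduct.quotIdealMapEquivQuotTensor E P).toLinearEquiv
  have hmax' : (maximalIdeal (S ⧸ P)).map (algebraMap (S ⧸ P) (E ⧸ I)) = maximalIdeal (E ⧸ I) := by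
    rw [← IsLocalRing.map_maximalIdeal_of_surjective _ (Ideal.Quotient.mk_surjective (I := P)),
      Ideal.map_map, show (algebraMap (S ⧸ P) (E ⧸ I)).comp (Ideal.Quotient.mk P) =
        (Ideal.Quotient.mk I).comp (algebraMap S E) from RingHom.ext fun a => rfl,
      ← Ideal.map_map, hmax,
      IsLocalRing.map_maximalIdeal_of_surjective _ (Ideal.Quotient.mk_surjective (I := I))]
  haveI : IsLocalHom (algebraMap (S ⧸ P) (E ⧸ I)) :=
    ((IsLocalRing.local_hom_TFAE _).out 0 2 rfl rfl).mpr hmax'.le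
  exact Groth.Agent.Lib.Regular.Descent.ringKrullDim_eq _ hmax'

theorem hasCurveComp_map_iff [HenselianLocalRing S]
    (hmax : (maximalIdeal S).map (algebraMap S E) = maximalIdeal E)
    (hres : ∀ x : E, ∃ d, x - algebraMap S E d ∈ maximalIdeal E) (I : Ideal S) :
    HasCurveComp (I.map (algebraMap S E)) ↔ HasCurveComp I := by
  constructor
  · rintro ⟨Q, hQ, hd⟩
    haveI := hQ.1.1
    let P := Q.comap (algebraMap S E)
    have hP : P ∈ I.minimalPrimes := comap_mem_minimalPrimes hQ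
    haveI := hP.1.1
    refine ⟨P, hP, ?_⟩
    -- pass to `S ⧸ I`
    have hIt : I ≠ ⊤ := fun h => hP.1.1.ne_top (top_le_iff.1 (h ▸ hP.1.2))
    let J := I.map (algebraMap S E)
    haveI : Nontrivial (E ⧸ J) := Ideal.Quotient.nontrivial_iff.mpr fun h' =>
      hQ.1.1.ne_top (top_le_iff.mp (h' ▸ hQ.1.2))
    haveI : Nontrivial (S ⧸ I) := Ideal.Quotient.nontrivial_iff.mpr hIt
    haveI : IsLocalRing (E ⧸ J) := .of_surjective' (Ideal.Quotient.mk J) Ideal.Quotient.mk_surjective
    haveI : IsLocalRing (S ⧸ I) := .of_surjective' (Ideal.Quotient.mk I) Ideal.Quotient.mk_surjective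
    haveI : HenselianLocalRing (S ⧸ I) :=
      Groth.Agent.Lib.Henselian.LocalRing.henselianLocalRing_of_isIntegral S _
    haveI : Module.Flat (S ⧸ I) (E ⧸ J) :=
      Module.Flat.of_linearEquiv (R := S ⧸ I)
        (Algebra.TensorProduct.quotIdealMapEquivQuotTensor E I).toLinearEquiv
    have hcomm : (algebraMap (S ⧸ I) (E ⧸ J)).comp (Ideal.Quotient.mk I) =
        (Ideal.Quotient.mk J).comp (algebraMap S E) := RingHom.ext fun a => rfl
    have hmaxJ := IsLocalRing.map_maximalIdeal_of_surjective _ (Ideal.Quotient.mk_surjective (I := J))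
    have hmax' : (maximalIdeal (S ⧸ I)).map (algebraMap (S ⧸ I) (E ⧸ J)) = maximalIdeal (E ⧸ J) := by
      rw [← IsLocalRing.map_maximalIdeal_of_surjective _ (Ideal.Quotient.mk_surjective (I := I)),
        Ideal.map_map, hcomm, ← Ideal.map_map, hmax, hmaxJ]
    have hres' : ∀ x : E ⧸ J, ∃ d, x - algebraMap (S ⧸ I) (E ⧸ J) d ∈ maximalIdeal (E ⧸ J) := fun x => by
      obtain ⟨x, rfl⟩ := Ideal.Quotient.mk_surjective x
      obtain ⟨d, hd'⟩ := hres x
      refine ⟨Ideal.Quotient.mk I d, ?_⟩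
      rw [← hmaxJ]
      exact (map_sub (Ideal.Quotient.mk J) x _) ▸ Ideal.mem_map_of_mem _ hd'
    let q := Q.map (Ideal.Quotient.mk J)
    have hker : RingHom.ker (Ideal.Quotient.mk J) ≤ Q := by rw [Ideal.mk_ker]; exact hQ.1.2
    have hqc : q.comap (Ideal.Quotient.mk J) = Q := by
      rw [Ideal.comap_map_of_surjective _ Ideal.Quotient.mk_surjective, ← RingHom.ker_eq_comap_bot,
        sup_eq_left.2 hker]
    haveI : q.IsPrime := Ideal.map_isPrime_of_surjective Ideal.Quotient.mk_surjective hker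
    have hq : q ∈ minimalPrimes (E ⧸ J) := ⟨⟨inferInstance, bot_le⟩, fun R hR hle => by
      haveI := hR.1
      have h1 : Q ≤ R.comap (Ideal.Quotient.mk J) := hQ.2 ⟨hR.1.comap _, fun a ha => by
        rw [Ideal.mem_comap, Ideal.Quotient.eq_zero_iff_mem.2 ha]; exact zero_mem _⟩
        ((Ideal.comap_mono hle).trans hqc.le)
      exact Ideal.map_le_iff_le_comap.2 h1⟩
    have hqd : ringKrullDim ((E ⧸ J) ⧸ q) ≤ 1 :=
      (le_of_eq ((ringKrullDim_eq_of_ringEquiv
        (DoubleQuot.quotQuotEquivQuotOfLE (I := J) (J := Q) hQ.1.2)).trans hd))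
    have hrad := CompletionBranch.radical_map_comap_eq (S ⧸ I) (E ⧸ J) hmax' hres' q hq hqd
    have hQrad : Q ≤ (P.map (algebraMap S E)).radical := by
      intro x hx
      have h1 : Ideal.Quotient.mk J x ∈ q := Ideal.mem_map_of_mem _ hx
      rw [← hrad] at h1
      obtain ⟨n, hn⟩ := h1
      refine ⟨n, ?_⟩
      rw [← map_pow] at hn
      have h2 : (q.comap (algebraMap (S ⧸ I) (E ⧸ J))).map (algebraMap (S ⧸ I) (E ⧸ J)) ≤
          (P.map (algebraMap S E)).map (Ideal.Quotient.mk J) := by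
        rw [Ideal.map_le_iff_le_comap]
        intro y hy
        obtain ⟨y, rfl⟩ := Ideal.Quotient.mk_surjective y
        have hyP : y ∈ P := by
          show algebraMap S E y ∈ Q
          rw [← hqc]
          exact hy
        exact Ideal.mem_map_of_mem (Ideal.Quotient.mk J) (Ideal.mem_map_of_mem _ hyP)
      obtain ⟨z, hz, hzx⟩ := (Ideal.mem_map_iff_of_surjective _ Ideal.Quotient.mk_surjective).1 (h2 hn)
      rw [Ideal.Quotient.eq] at hzx
      have h3 : J ≤ P.map (algebraMap S E) := Ideal.map_mono hP.1.2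
      simpa using sub_mem hz (h3 hzx)
    have hdim : ringKrullDim (E ⧸ P.map (algebraMap S E)) = 1 := by
      rw [← hd, ringKrullDim_quotient, ringKrullDim_quotient]
      refine congrArg (fun s : Set (PrimeSpectrum E) => Order.krullDim s) ?_
      refine le_antisymm (fun x hx => ?_) (PrimeSpectrum.zeroLocus_anti_mono Ideal.map_comap_le)
      exact hQrad.trans ((Ideal.IsPrime.radical_le_iff x.2).2 hx)
    rw [← ringKrullDim_quotient_map hmax P hP.1.1.ne_top, hdim]
  · rintro ⟨P, hP, hd⟩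
    haveI := hP.1.1
    have hne : P.map (algebraMap S E) ≠ ⊤ := fun h => (maximalIdeal.isMaximal E).ne_top
      (top_le_iff.1 (h ▸ hmax ▸ Ideal.map_mono (le_maximalIdeal hP.1.1.ne_top)))
    obtain ⟨Q, hQ⟩ := Ideal.nonempty_minimalPrimes hne
    haveI := hQ.1.1
    have hle : ringKrullDim (E ⧸ Q) ≤ 1 := by
      rw [← hd, ← ringKrullDim_quotient_map hmax P hP.1.1.ne_top]
      exact ringKrullDim_le_of_surjective (Ideal.Quotient.factor hQ.1.2)
        (Ideal.Quotient.factor_surjective hQ.1.2)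
    refine ⟨Q, mem_minimalPrimes_map hP hQ, le_antisymm hle ?_⟩
    obtain ⟨Q₁, h1, h2, h3⟩ := exists_le_comap_eq (Ideal.map_le_iff_le_comap.1 hQ.1.2)
    have hQ₁ : Q₁ = Q := le_antisymm h1 (hQ.2 ⟨h2, Ideal.map_le_iff_le_comap.2 h3.ge⟩ h1)
    have hQm : Q ≠ maximalIdeal E := by
      intro h
      have hPm : P = maximalIdeal S := by
        rw [← h3, hQ₁, h, PuncturedHenselian.comap_maximalIdeal_eq S E hmax]
      have hfield : IsField (S ⧸ P) :=
        (Ideal.Quotient.maximal_ideal_iff_isField_quotient P).1 (hPm ▸ maximalIdeal.isMaximal S)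
      rw [ringKrullDim_eq_zero_of_isField hfield] at hd
      exact zero_ne_one hd
    have hlt : Q < maximalIdeal E := lt_of_le_of_ne (le_maximalIdeal hQ.1.1.ne_top) hQm
    rw [ringKrullDim_quotient]
    let x₀ : PrimeSpectrum.zeroLocus (Q : Set E) := ⟨⟨Q, hQ.1.1⟩, le_refl Q⟩
    let x₁ : PrimeSpectrum.zeroLocus (Q : Set E) :=
      ⟨closedPoint E, le_maximalIdeal hQ.1.1.ne_top⟩
    exact Order.LTSeries.length_le_krullDim
      (LTSeries.mk 1 ![x₀, x₁] (Fin.strictMono_iff_lt_succ.2 fun i => by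
        fin_cases i; exact hlt))

end Local

end Groth.Agent.H24.ImmGen
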