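import Groth.Agent.H24.ImmGen.Main

/-!
# The map of strict henselizations, with its compatibility
-/

set_option autoImplicit false

universe u

open IsLocalRing
open Groth.Agent.Lib
open Groth.Agent.Lib.Unram

namespace Groth.Agent.H24.ImmGen

variable (A : Type u) [CommRing A] [IsLocalRing A] [IsNoetherianRing A]

local notation "Ah" => AdicCompletion (maximalIdeal A) A

/-- The map of strict henselizations. -/
theorem exists_strict_map' :
    ∃ g : Henselian.StrictHenselization.StrictHenselization A →+*
        Henselian.StrictHenselization.StrictHenselization Ah,
      letI := g.toAlgebra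
      Module.Flat (Henselian.StrictHenselization.StrictHenselization A)
        (Henselian.StrictHenselization.StrictHenselization Ah) ∧
      (maximalIdeal (Henselian.StrictHenselization.StrictHenselization A)).map g =
        maximalIdeal (Henselian.StrictHenselization.StrictHenselization Ah) ∧
      (∀ x, ∃ d, x - g d ∈ maximalIdeal (Henselian.StrictHenselization.StrictHenselization Ah)) ∧
      g.comp (algebraMap A (Henselian.StrictHenselization.StrictHenselization A)) =
        (algebraMap Ah (Henselian.StrictHenselization.StrictHenselization Ah)).comp (algebraMap A Ah) := by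
  let S := Henselian.StrictHenselization.StrictHenselization A
  let T := Henselian.StrictHenselization.StrictHenselization Ah
  have hS : Hensel.IsStrictHenselization A S := inferInstance
  have hT : Hensel.IsStrictHenselization Ah T := inferInstance
  have := hS.isSepClosure.sep_closed
  have := hS.isSepClosure.separable
  have := hT.isSepClosure.sep_closed
  have := hT.isSepClosure.separable
  let f : A →+* T := (algebraMap Ah T).comp (algebraMap A Ah)
  have : IsLocalHom f := RingHom.isLocalHom_comp _ _
  let : Algebra (ResidueField A) (ResidueField T) := (ResidueField.map f).toAlgebra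
  have : Algebra.IsSeparable (ResidueField A) (ResidueField T) := by
    let e : ResidueField A ≃+* ResidueField Ah :=
      RingEquiv.ofBijective (ResidueField.map (algebraMap A Ah))
        (AdicCompletion.residueField_map_bijective_of_fg (IsNoetherian.noetherian _))
    refine Algebra.IsSeparable.of_equiv_equiv e.symm (RingEquiv.refl (ResidueField T)) ?_
    refine RingHom.ext fun y => ?_
    obtain ⟨y, rfl⟩ := e.surjective y
    obtain ⟨a, rfl⟩ := residue_surjective y
    simp only [RingHom.coe_comp, RingEquiv.coe_toRingHom, Function.comp_apply, RingEquiv.symm_apply_apply,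
      RingEquiv.refl_apply]
    rfl
  let τ : ResidueField S →ₐ[ResidueField A] ResidueField T := IsSepClosed.lift
  obtain ⟨g, ⟨hg, hgτ⟩, -⟩ := hS.universal T f τ.toRingHom (RingHom.ext fun x => τ.commutes x)
  refine ⟨g, ?_⟩
  let : Algebra S T := g.toAlgebra
  let : Algebra A T := f.toAlgebra
  have : IsScalarTower A Ah T := IsScalarTower.of_algebraMap_eq fun a => rfl
  have : IsScalarTower A S T := IsScalarTower.of_algebraMap_eq fun a => (RingHom.congr_fun hg a).symm
  refine ⟨CompletionBranch.flat_of_indEtale A Ah S T Henselian.IndEtale.isIndEtale_lim
    Henselian.IndEtale.isIndEtale_lim, ?_, fun x => ?_, hg⟩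
  · rw [← Henselian.StrictHenselization.map_maximalIdeal A S, Ideal.map_map, hg,
      ← Henselian.StrictHenselization.map_maximalIdeal Ah T, AdicCompletion.maximalIdeal_eq_map,
      Ideal.map_map]
  · let : Algebra (ResidueField S) (ResidueField T) := τ.toRingHom.toAlgebra
    have : IsScalarTower (ResidueField A) (ResidueField S) (ResidueField T) :=
      IsScalarTower.of_algebraMap_eq fun y => (τ.commutes y).symm
    have : Algebra.IsSeparable (ResidueField S) (ResidueField T) :=
      Algebra.isSeparable_tower_top_of_isSeparable (ResidueField A) _ _
    obtain ⟨y, hy⟩ := IsSepClosed.algebraMap_surjective (ResidueField S) (ResidueField T) (residue T x)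
    obtain ⟨d, rfl⟩ := residue_surjective y
    refine ⟨d, ?_⟩
    rw [← residue_eq_zero_iff, map_sub, sub_eq_zero, hgτ]
    exact hy.symm

end Groth.Agent.H24.ImmGen
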